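import Mathlib.RingTheory.AdicCompletion.LocalRing
import Mathlib.Algebra.Polynomial.Identities
import Mathlib.Tactic.LinearCombination
import Mathlib.RingTheory.Nakayama
import Groth.Agent.Lib.Compl.Complete

/-!
# Newton iteration and Krasner approximation in complete rings
-/

set_option autoImplicit false

universe u

namespace Groth.Agent.KrasnerH7

open Polynomial

/-- Newton iteration with constant slope. -/
theorem exists_root {B : Type u} [CommRing B] (ϖ : B) [IsAdicComplete (Ideal.span {ϖ}) B]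
    (g : B[X]) (α e : B) (k m : ℕ) (he : g.derivative.eval α * e = ϖ ^ k) (hm : 2 * k + 1 ≤ m)
    (hα : ϖ ^ m ∣ g.eval α) :
    ∃ β : B, g.eval β = 0 ∧ ϖ ^ (m - k) ∣ β - α := by
  have step : ∀ (j : ℕ) (x : B), ϖ ^ (m + j) ∣ g.eval x ∧ ϖ ^ (m - k) ∣ x - α →
      ∃ h : B, ϖ ^ (m - k + j) ∣ h ∧ (ϖ ^ (m + (j + 1)) ∣ g.eval (x + h) ∧ ϖ ^ (m - k) ∣ x + h - α) := by
    rintro j x ⟨⟨c, hc⟩, hx⟩
    refine ⟨-(e * ϖ ^ (m - k + j) * c), Dvd.dvd.neg_right ⟨e * c, by ring⟩, ?_, ?_⟩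
    · obtain ⟨r, hr⟩ := binomExpansion g x (-(e * ϖ ^ (m - k + j) * c))
      obtain ⟨s, hs⟩ : ϖ ^ (m - k) ∣ g.derivative.eval x - g.derivative.eval α :=
        hx.trans (sub_dvd_eval_sub x α _)
      rw [hr, hc]
      have e1 : ϖ ^ (m + j) = ϖ ^ k * ϖ ^ (m - k + j) := by rw [← pow_add]; congr 1; omega
      have e2 : ϖ ^ (m - k) * ϖ ^ (m - k + j) = ϖ ^ (m + (j + 1)) * ϖ ^ (m - 2 * k - 1) := by
        rw [← pow_add, ← pow_add]; congr 1; omega
      have e3 : (ϖ ^ (m - k + j)) ^ 2 = ϖ ^ (m + (j + 1)) * ϖ ^ (m + j - 2 * k - 1) := by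
        rw [← pow_mul, ← pow_add]; congr 1; omega
      exact ⟨-(s * e * c * ϖ ^ (m - 2 * k - 1)) + r * e ^ 2 * c ^ 2 * ϖ ^ (m + j - 2 * k - 1), by
        linear_combination c * e1 - ϖ ^ (m - k + j) * c * he - (e * ϖ ^ (m - k + j) * c) * hs - (s * e * c) * e2 +
          (r * e ^ 2 * c ^ 2) * e3⟩
    · rw [add_sub_right_comm]
      exact dvd_add hx (Dvd.dvd.neg_right (dvd_mul_of_dvd_left (dvd_mul_of_dvd_right (pow_dvd_pow _ (by omega)) _) _))
  choose h hh hnext using step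
  let seq : ∀ j, {x : B // ϖ ^ (m + j) ∣ g.eval x ∧ ϖ ^ (m - k) ∣ x - α} := fun j =>
    Nat.rec ⟨α, by simpa using hα, by simp⟩ (fun j x => ⟨x.1 + h j x.1 x.2, hnext j x.1 x.2⟩) j
  have hseq : ∀ j, (seq (j + 1)).1 = (seq j).1 + h j (seq j).1 (seq j).2 := fun j => rfl
  have hC : ∀ {a b : ℕ}, a ≤ b → ϖ ^ a ∣ (seq b).1 - (seq a).1 := by
    intro a b hab
    induction hab with
    | refl => simp
    | @step b hab ih =>
      rw [hseq, add_sub_right_comm]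
      exact dvd_add ih ((pow_dvd_pow _ (le_trans hab (Nat.le_add_left _ _))).trans (hh b _ _))
  have hmem : ∀ (n : ℕ) (y : B), y ∈ (Ideal.span {ϖ} ^ n • ⊤ : Submodule B B) ↔ ϖ ^ n ∣ y := fun n y => by
    rw [smul_eq_mul, Ideal.mul_top, Ideal.span_singleton_pow, Ideal.mem_span_singleton]
  obtain ⟨β, hβ⟩ := IsPrecomplete.prec (I := Ideal.span {ϖ}) inferInstance (f := fun j => (seq j).1)
    (fun {a b} hab => SModEq.sub_mem.2 ((hmem _ _).2 (by rw [← neg_sub]; exact (hC hab).neg_right)))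
  have hβ' : ∀ n, ϖ ^ n ∣ (seq n).1 - β := fun n => (hmem _ _).1 (SModEq.sub_mem.1 (hβ n))
  refine ⟨β, IsHausdorff.haus (I := Ideal.span {ϖ}) inferInstance _ fun n => SModEq.sub_mem.2 ?_, ?_⟩
  · rw [sub_zero, hmem]
    have h1 : ϖ ^ n ∣ g.eval (seq n).1 - g.eval β := (hβ' n).trans (sub_dvd_eval_sub _ _ _)
    have h2 : ϖ ^ n ∣ g.eval (seq n).1 := (pow_dvd_pow _ (by omega)).trans (seq n).2.1
    have := dvd_sub h2 h1
    rwa [sub_sub_cancel] at this
  · have := dvd_sub (seq (m - k)).2.2 (hβ' (m - k))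
    rwa [sub_sub_sub_cancel_left] at this

end Groth.Agent.KrasnerH7
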